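import Mathlib.RingTheory.WittVector.Truncated
import Mathlib.RingTheory.WittVector.Identities
import Mathlib.RingTheory.WittVector.Domain
import Mathlib.RingTheory.WittVector.Teichmuller
import Mathlib.RingTheory.Idempotents
import Mathlib.RingTheory.Nilpotent.Lemmas
import Mathlib.RingTheory.Noetherian.Nilpotent
import Mathlib.RingTheory.Nakayama
import Mathlib.RingTheory.OrzechProperty
import Mathlib.RingTheory.FiniteType
import Mathlib.Algebra.Module.Projective
import Mathlib.LinearAlgebra.Matrix.ToLin
import Mathlib.Tactic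

/-!
# Lifting finite projective modules along `W(S) → W(R)` for a nil kernel
-/

set_option autoImplicit false
set_option linter.style.haveILetI false

universe u

namespace Groth.Agent.WittNilLift

open WittVector

variable {p : ℕ} [hp : Fact p.Prime] {S R : Type u} [CommRing S] [CommRing R]

lemma verschiebung_pow (x : WittVector p S) (k : ℕ) :
    verschiebung x ^ (k + 1) = verschiebung (x ^ (k + 1) * (p : WittVector p S) ^ k) := by
  induction k with
  | zero => simp
  | succ k ih =>
    rw [pow_succ, ih, ← verschiebung_mul_frobenius, frobenius_verschiebung]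
    congr 1
    ring

lemma verschiebung_mem_ker_truncate (x : WittVector p S) (n : ℕ)
    (hx : x ∈ RingHom.ker (truncate (p := p) (R := S) n)) :
    verschiebung x ∈ RingHom.ker (truncate (p := p) (R := S) (n + 1)) := by
  rw [mem_ker_truncate] at hx ⊢
  intro i hi
  cases i with
  | zero => exact verschiebung_coeff_zero x
  | succ i => exact (verschiebung_coeff_succ x i).trans (hx i (by omega))

/-- An element with nilpotent coordinates is nilpotent in every truncation. -/
lemma isNilpotent_truncate (φ : S →+* R) (hnil : ∀ a, φ a = 0 → IsNilpotent a) (n : ℕ)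
    (x : WittVector p S) (hx : WittVector.map φ x = 0) : IsNilpotent (truncate (p := p) n x) := by
  induction n generalizing x with
  | zero =>
    refine ⟨1, ?_⟩
    rw [pow_one]
    exact TruncatedWittVector.ext fun i => i.elim0
  | succ n ih =>
    have h0 : φ (x.coeff 0) = 0 := by
      rw [← map_coeff φ x 0, hx, zero_coeff]
    set y := x - teichmuller p (x.coeff 0) with hy
    have hy0 : y.coeff 0 = 0 := by
      show WittVector.constantCoeff y = 0
      rw [hy, map_sub]
      exact sub_eq_zero.2 (teichmuller_coeff_zero p (x.coeff 0)).symm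
    have hφy : WittVector.map φ y = 0 := by
      rw [hy, map_sub, hx, map_teichmuller, h0, teichmuller_zero, sub_zero]
    have hV : verschiebung (y.shift 1) = y := by
      ext i
      cases i with
      | zero => rw [verschiebung_coeff_zero, hy0]
      | succ i => rw [verschiebung_coeff_succ, shift_coeff, Nat.add_comm]
    have hφs : WittVector.map φ (y.shift 1) = 0 := by
      ext i
      rw [map_coeff, shift_coeff, ← map_coeff φ y, hφy, zero_coeff, zero_coeff]
    have hxsum : x = teichmuller p (x.coeff 0) + y := by rw [hy]; ring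
    rw [hxsum, map_add]
    refine Commute.isNilpotent_add (Commute.all _ _) ?_ ?_
    · obtain ⟨k, hk⟩ := hnil _ h0
      refine ⟨k, ?_⟩
      rw [← map_pow, ← map_pow, hk, teichmuller_zero, map_zero]
    · obtain ⟨k, hk⟩ := ih _ hφs
      refine ⟨k + 1, ?_⟩
      rw [← map_pow, ← hV, verschiebung_pow]
      apply verschiebung_mem_ker_truncate
      rw [RingHom.mem_ker, map_mul, map_pow, pow_succ, hk, zero_mul, zero_mul]

lemma truncate_eq_truncate_iff (n : ℕ) (x y : WittVector p S) :
    truncate (p := p) n x = truncate n y ↔ ∀ i < n, x.coeff i = y.coeff i := by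
  constructor
  · intro h i hi
    simpa using congrArg (fun t => TruncatedWittVector.coeff (⟨i, hi⟩ : Fin n) t) h
  · intro h
    exact TruncatedWittVector.ext fun i => by rw [coeff_truncate, coeff_truncate, h i i.2]

lemma eq_of_truncate_eq (x y : WittVector p S) (h : ∀ n, truncate (p := p) n x = truncate n y) : x = y :=
  WittVector.ext fun n => (truncate_eq_truncate_iff (n + 1) x y).1 (h (n + 1)) n (by omega)

/-- `W(S)` is complete for the truncations. -/
lemma exists_limit (y : ℕ → WittVector p S) (hy : ∀ n, truncate (p := p) n (y (n + 1)) = truncate n (y n)) :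
    ∃ x : WittVector p S, ∀ n, truncate (p := p) n x = truncate n (y n) := by
  refine ⟨WittVector.mk p fun i => (y (i + 1)).coeff i, fun n => (truncate_eq_truncate_iff n _ _).2 fun i hi => ?_⟩
  rw [coeff_mk]
  induction n, hi using Nat.le_induction with
  | base => rfl
  | succ m hm ih => exact ih.trans ((truncate_eq_truncate_iff m _ _).1 (hy m) i (by omega)).symm

lemma isUnit_of_map_eq_one (φ : S →+* R) (hnil : ∀ a, φ a = 0 → IsNilpotent a) (x : WittVector p S)
    (hx : WittVector.map φ x = 1) : IsUnit x := by
  have h : ∀ n, ∃ y, truncate (p := p) n (x * y) = 1 := fun n => by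
    have hn := isNilpotent_truncate φ hnil n (1 - x) (by rw [map_sub, hx, map_one, sub_self])
    have hu := hn.isUnit_one_sub
    rw [map_sub, map_one, sub_sub_cancel] at hu
    obtain ⟨v, hv⟩ := hu.exists_right_inv
    obtain ⟨y, rfl⟩ := truncate_surjective p n S v
    exact ⟨y, by rw [map_mul, hv]⟩
  choose y hy using h
  obtain ⟨z, hz⟩ := exists_limit y fun n => by
    have h1 := hy n
    have h2 : truncate (p := p) n (x * y (n + 1)) = 1 := by
      have h3 := hy (n + 1)
      rw [← map_one (truncate (p := p) (R := S) (n + 1)), truncate_eq_truncate_iff] at h3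
      rw [← map_one (truncate (p := p) (R := S) n), truncate_eq_truncate_iff]
      exact fun i hi => h3 i (by omega)
    rw [map_mul] at h1 h2
    exact left_inv_eq_right_inv (by rwa [mul_comm] at h2) h1
  exact IsUnit.of_mul_eq_one z (eq_of_truncate_eq _ _ fun n => by rw [map_mul, hz, ← map_mul, hy, map_one])

lemma ker_le_jacobson (φ : S →+* R) (hnil : ∀ a, φ a = 0 → IsNilpotent a) :
    RingHom.ker (WittVector.map (p := p) φ) ≤ (⊥ : Ideal (WittVector p S)).jacobson := by
  intro x hx
  rw [Ideal.mem_jacobson_bot]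
  intro y
  exact isUnit_of_map_eq_one φ hnil _ (by rw [map_add, map_mul, RingHom.mem_ker.1 hx, zero_mul, zero_add, map_one])

/-- A matrix with nilpotent entries is nilpotent. -/
lemma matrix_isNilpotent {T : Type u} [CommRing T] {N : Type} [Fintype N] [DecidableEq N] (M : Matrix N N T)
    (hM : ∀ i j, IsNilpotent (M i j)) : IsNilpotent M := by
  let I : Ideal T := Ideal.span (Set.range fun q : N × N => M q.1 q.2)
  have hI : IsNilpotent I := by
    refine (Ideal.FG.isNilpotent_iff_le_nilradical (Submodule.fg_span (Set.finite_range _))).2 (Ideal.span_le.2 ?_)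
    rintro _ ⟨q, rfl⟩
    exact hM q.1 q.2
  obtain ⟨k, hk⟩ := hI
  have hpow : ∀ k i j, (M ^ k) i j ∈ I ^ k := by
    intro k
    induction k with
    | zero => simp
    | succ k ih =>
      intro i j
      rw [pow_succ M, pow_succ I, Matrix.mul_apply]
      exact Ideal.sum_mem _ fun l _ => Ideal.mul_mem_mul (ih i l) (Ideal.subset_span ⟨(l, j), rfl⟩)
  refine ⟨k, Matrix.ext fun i j => ?_⟩
  have := hpow k i j
  rw [hk] at this
  exact this

/-- Idempotent matrices lift along `W(S) → W(R)`. -/
lemma exists_idempotent_lift (φ : S →+* R) (hφ : Function.Surjective φ) (hnil : ∀ a, φ a = 0 → IsNilpotent a)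
    {N : Type} [Fintype N] [DecidableEq N] (E : Matrix N N (WittVector p R)) (hE : IsIdempotentElem E) :
    ∃ e : Matrix N N (WittVector p S), IsIdempotentElem e ∧ e.map (WittVector.map φ) = E := by
  choose c hc using fun i j => WittVector.map_surjective φ hφ (E i j)
  let e₀ : Matrix N N (WittVector p S) := Matrix.of c
  let F : Matrix N N (WittVector p S) →+* Matrix N N (WittVector p R) := (WittVector.map φ).mapMatrix
  let t : (n : ℕ) → Matrix N N (WittVector p S) →+* Matrix N N (TruncatedWittVector p n S) := fun n =>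
    (truncate (p := p) n).mapMatrix
  have hF₀ : F e₀ = E := Matrix.ext hc
  have hker : ∀ n x, F x = 0 → IsNilpotent (t n x) := fun n x hx =>
    matrix_isNilpotent _ fun i j => isNilpotent_truncate φ hnil n _ (congrFun (congrFun hx i) j)
  have hlev : ∀ n, ∃ e : Matrix N N (WittVector p S),
      F e = E ∧ t n (e * e) = t n e ∧ (∀ y, Commute e₀ y → Commute e y) := by
    intro n
    obtain ⟨k, hk⟩ := hker n (e₀ - e₀ ^ 2) (by rw [map_sub, map_pow, hF₀, pow_two, hE.eq, sub_self])
    have hk' : (t n e₀ - t n e₀ ^ 2) ^ (k + 1) = 0 := by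
      rw [← map_pow, ← map_sub, pow_succ, hk, zero_mul]
    refine ⟨1 - (1 - e₀ ^ (k + 1)) ^ (k + 1), ?_, ?_, fun y hy => ?_⟩
    · rw [map_sub, map_pow, map_sub, map_pow, map_one, hF₀, hE.pow_succ_eq, hE.one_sub.pow_succ_eq, sub_sub_cancel]
    · rw [map_mul, map_sub, map_pow, map_sub, map_pow, map_one]
      exact (isIdempotentElem_one_sub_one_sub_pow_pow _ _ hk').eq
    · exact (Commute.one_left y).sub_left (((Commute.one_left y).sub_left (hy.pow_left _)).pow_left _)
  choose e heF hidem hcomm using hlev
  have hcompat : ∀ n, t n (e (n + 1)) = t n (e n) := by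
    intro n
    have hup : ∀ x y, t (n + 1) x = t (n + 1) y → t n x = t n y := by
      intro x y h
      refine Matrix.ext fun i j => (truncate_eq_truncate_iff n _ _).2 fun l hl => ?_
      exact (truncate_eq_truncate_iff (n + 1) _ _).1 (congrFun (congrFun h i) j) l (by omega)
    have hc' : Commute (e (n + 1)) (e n) := hcomm (n + 1) _ (hcomm n _ (Commute.refl e₀)).symm
    have h₁ : IsIdempotentElem (t n (e (n + 1))) := by
      rw [IsIdempotentElem, ← map_mul]; exact hup _ _ (hidem (n + 1))
    have h₂ : IsIdempotentElem (t n (e n)) := by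
      rw [IsIdempotentElem, ← map_mul]; exact hidem n
    refine eq_of_isNilpotent_sub_of_isIdempotentElem_of_commute h₁ h₂ ?_ (hc'.map _)
    rw [← map_sub]
    exact hker n _ (by rw [map_sub, heF, heF, sub_self])
  choose z hz using fun i j => exists_limit (fun n => e n i j) fun n => congrFun (congrFun (hcompat n) i) j
  have htz : ∀ n, t n (Matrix.of z) = t n (e n) := fun n => Matrix.ext fun i j => hz i j n
  refine ⟨Matrix.of z, Matrix.ext fun i j => eq_of_truncate_eq _ _ fun n => ?_, Matrix.ext fun i j => ?_⟩
  · have : t n (Matrix.of z * Matrix.of z) = t n (Matrix.of z) := by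
      rw [map_mul, htz, ← map_mul, hidem]
    exact congrFun (congrFun this i) j
  · show WittVector.map φ (z i j) = E i j
    ext m
    rw [map_coeff, (truncate_eq_truncate_iff (m + 1) _ _).1 (hz i j (m + 1)) m (by omega), ← map_coeff φ]
    exact congrArg (fun w => WittVector.coeff w m) (congrFun (congrFun (heF (m + 1)) i) j)

/-- Uniqueness of lifts. -/
lemma exists_equiv {A : Type u} [CommRing A] {J : Ideal A} (hJ : J ≤ (⊥ : Ideal A).jacobson)
    {P P₁ P₂ : Type u} [AddCommGroup P] [Module A P]
    [AddCommGroup P₁] [Module A P₁] [Module.Finite A P₁] [Module.Projective A P₁]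
    [AddCommGroup P₂] [Module A P₂] [Module.Finite A P₂] [Module.Projective A P₂]
    (π₁ : P₁ →ₗ[A] P) (π₂ : P₂ →ₗ[A] P) (h₁ : Function.Surjective π₁) (h₂ : Function.Surjective π₂)
    (k₁ : LinearMap.ker π₁ = J • (⊤ : Submodule A P₁)) (k₂ : LinearMap.ker π₂ = J • (⊤ : Submodule A P₂)) :
    ∃ e : P₁ ≃ₗ[A] P₂, ∀ x, π₂ (e x) = π₁ x := by
  obtain ⟨f, hf⟩ := Module.projective_lifting_property π₂ π₁ h₂
  obtain ⟨g, hg⟩ := Module.projective_lifting_property π₁ π₂ h₁
  have aux : ∀ {Q : Type u} [AddCommGroup Q] [Module A Q] [Module.Finite A Q] (π : Q →ₗ[A] P),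
      LinearMap.ker π = J • (⊤ : Submodule A Q) → ∀ h : Q →ₗ[A] Q, π ∘ₗ h = π → Function.Bijective h := by
    intro Q _ _ _ π hk h hh
    have hs : Function.Surjective h := by
      rw [← LinearMap.range_eq_top, eq_top_iff]
      refine Submodule.le_of_le_smul_of_le_jacobson_bot Module.Finite.fg_top hJ fun x _ => ?_
      refine Submodule.mem_sup.2 ⟨h x, ⟨x, rfl⟩, x - h x, ?_, add_sub_cancel _ _⟩
      rw [← hk, LinearMap.mem_ker, map_sub, ← LinearMap.comp_apply π h, hh, sub_self]
    exact ⟨OrzechProperty.injective_of_surjective_endomorphism h hs, hs⟩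
  have hgf : π₁ ∘ₗ (g ∘ₗ f) = π₁ := by rw [← LinearMap.comp_assoc, hg, hf]
  have hfg : π₂ ∘ₗ (f ∘ₗ g) = π₂ := by rw [← LinearMap.comp_assoc, hf, hg]
  have hgf' := (aux π₁ k₁ _ hgf).1
  have hfg' := (aux π₂ k₂ _ hfg).2
  refine ⟨LinearEquiv.ofBijective f ⟨?_, ?_⟩, fun x => LinearMap.congr_fun hf x⟩
  · exact Function.Injective.of_comp (f := g) hgf'
  · exact Function.Surjective.of_comp (g := g) hfg'

end Groth.Agent.WittNilLift
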